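import Cfsg.Agent.H951.Rg.Max93
import Cfsg.Agent.S5833

/-!
# `MAX 9 3` (S3691-T12, helper951)
-/

set_option autoImplicit false

namespace Cfsg.Agent.H951.Rg

open Cfsg Cfsg.Geo Cfsg.Agent.H884.El
open scoped MatrixGroups

theorem max93 {E : Type} [Field E] [Fintype E] {p f r a : ℕ} (hp : p.Prime) (hf : 1 ≤ f)
    (hE : Fintype.card E = (p ^ f) ^ 2) (hr : PP p (f * (2 * 9)) r) {H : Subgroup (GL (Fin 9) E)}
    (hH : IsMaximalIn (Cfsg.GU 9 E (p ^ f) ⊓ specialLinear (Fin 9) E) H) {x : GL (Fin 9) E} (hx : x ∈ H)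
    (ho : orderOf x = r ^ a) (hbig : 4 * 9 + 1 < r ^ a) :
    ∃ K : Subalgebra E (Matrix (Fin 9) (Fin 9) E), IsFieldSubalgebra 3 K ∧ H ≤ subalgebraNormalizer K :=
  max93_of (fun F _ _ q hF H hH hS => Cfsg.Agent.S5833.result q hF H hH hS) hp hf hE hr hH hx ho hbig

end Cfsg.Agent.H951.Rg
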