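import Cfsg.Agent.H951.Rg.Over
import Cfsg.Agent.H729.CovSU9
import Cfsg.Agent.S0813
import Cfsg.Agent.S0265
import Cfsg.Agent.ClassicalGeometry.PSL2Basic

/-!
# `MAX 9 3`: maximal subgroups of `SU_9(q)` containing an element of order `r ^ a` (S3691-T12, helper951)

`max93_of` : from the residual class `Res9`.
-/

set_option autoImplicit false
set_option linter.unusedSectionVars false

namespace Cfsg.Agent.H951.Rg

open Cfsg Cfsg.Geo Module Cfsg.Agent.H251.GeoCard Cfsg.Agent.H251.GeoU Cfsg.Agent.H884.El Cfsg.Agent.H729.CovSU9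
open scoped Matrix MatrixGroups

theorem card_aut_l219 :
    Nat.card (MulAut (Matrix.ProjectiveSpecialLinearGroup (Fin 2) (ZMod 19))) = 6840 := by
  have hf : Fact (Nat.Prime 19) := ⟨by norm_num⟩
  rw [Cfsg.Agent.S0813.result 19 1 le_rfl (by rw [ZMod.card, pow_one]) 2 le_rfl (fun _ => by norm_num),
    Cfsg.Agent.S0265.result, Cfsg.Agent.ClassicalGeometry.PSL2Basic.card_SL2, ZMod.card]
  norm_num

theorem card_aut_j3 {S : Type} [Group S] [Finite S] [IsSimpleGroup S] (hna : ¬ IsMulCommutative S)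
    (hS : Spor.IsoJ3 S) : Nat.card (MulAut S) = 100465920 := by
  obtain ⟨F, _, _, ω, hF, hω, ⟨e⟩⟩ := hS
  have hcard : Nat.card S = 50232960 := by rw [Nat.card_congr e.toEquiv, (S1625.result F hF ω hω).2.2.1]
  have hout : Nat.card (Cfsg.Out S) = 2 := by rw [H55.OutGen.card_out_congr e, S2067.result hF ω hω]
  rw [← H934.OutB.card_out_mul S hna, hcard, hout]

/-- **`MAX 9 3`** from the residual class, with the weakest hypothesis -/
theorem max93_of' (hres : ∀ (F : Type) [Field F] [Fintype F] (q : ℕ), Fintype.card F = q ^ 2 → Res9 F q)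
    {E : Type} [Field E] [Fintype E] {p f r a : ℕ} (hp : p.Prime) (hf : 1 ≤ f) (hE : Fintype.card E = (p ^ f) ^ 2)
    (hr : PP p (f * (2 * 9)) r) {H : Subgroup (GL (Fin 9) E)}
    (hH : IsMaximalIn (Cfsg.GU 9 E (p ^ f) ⊓ specialLinear (Fin 9) E) H) {x : GL (Fin 9) E} (hx : x ∈ H)
    (ho : orderOf x = r ^ a) (ha : a ≠ 0) (h19 : r = 19 → a ≠ 1) :
    ∃ K : Subalgebra E (Matrix (Fin 9) (Fin 9) E), IsFieldSubalgebra 3 K ∧ H ≤ subalgebraNormalizer K := by
  rcases ovr hp hf hE (by decide) (by norm_num) hr (hH.1.le.trans inf_le_left) hx ho ha with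
    ⟨s, K, hs, -, hsm, hK, hle⟩ | hR
  · have h1 : s ∣ 3 ^ 2 := hsm
    have h3 : s = 3 := (Nat.prime_dvd_prime_iff_eq hs Nat.prime_three).1 (hs.dvd_of_dvd_pow h1)
    subst h3
    exact ⟨K, hK, hle⟩
  · exfalso
    obtain ⟨hiff, hd, hord⟩ := ord_neg_of_pp hp hf (by norm_num) (by decide) hr
    obtain ⟨P, hP, hcases⟩ := hres E (p ^ f) hE H hH hR
    have hsim : IsSimpleGroup (P ⧸ (scalars (Fin 9) E).subgroupOf P) := hP.simple
    have hna := hP.nonabelian
    have hdvd := core_dvd_pow (by norm_num) hP hr.prime (not_dvd_pred hp hf hE (by norm_num) hr) hx ho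
    have hr' : r ∣ Nat.card (Cfsg.Out (P ⧸ (scalars (Fin 9) E).subgroupOf P)) ∨
        r ∣ Nat.card (P ⧸ (scalars (Fin 9) E).subgroupOf P) := by
      have h1 := (dvd_pow_self r ha).trans hdvd
      rw [← H934.OutB.card_out_mul _ hna] at h1
      exact hr.prime.dvd_mul.1 h1
    have hr18 : 18 < r := by
      have h1 := Nat.le_of_dvd (by have := hr.prime.two_le; omega) hd
      omega
    have ha2 : r = 19 → 19 ^ 2 ∣ Nat.card (MulAut (P ⧸ (scalars (Fin 9) E).subgroupOf P)) := by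
      intro h1
      have h2 := h19 h1
      subst h1
      exact (pow_dvd_pow 19 (by omega)).trans hdvd
    rcases hcases with ⟨⟨e⟩, -⟩ | ⟨hJ, -⟩ | ⟨⟨e⟩⟩
    · rcases l219 hna e hr.prime (by omega) hr' with h | h
      · omega
      · have h1 := ha2 h
        rw [Nat.card_congr (MulAut.congr e).toEquiv, card_aut_l219] at h1
        norm_num at h1
    · rcases j3 hJ hr.prime (by omega) hr' with h | h | h
      · omega
      · omega
      · have h1 := ha2 h
        rw [card_aut_j3 hna hJ] at h1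
        norm_num at h1
    · exact l3 hE hp rfl hf hna e hr.prime hord (by decide) (by norm_num) hd hr'

/-- **`MAX 9 3`** from the residual class -/
theorem max93_of (hres : ∀ (F : Type) [Field F] [Fintype F] (q : ℕ), Fintype.card F = q ^ 2 → Res9 F q)
    {E : Type} [Field E] [Fintype E] {p f r a : ℕ} (hp : p.Prime) (hf : 1 ≤ f) (hE : Fintype.card E = (p ^ f) ^ 2)
    (hr : PP p (f * (2 * 9)) r) {H : Subgroup (GL (Fin 9) E)}
    (hH : IsMaximalIn (Cfsg.GU 9 E (p ^ f) ⊓ specialLinear (Fin 9) E) H) {x : GL (Fin 9) E} (hx : x ∈ H)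
    (ho : orderOf x = r ^ a) (hbig : 4 * 9 + 1 < r ^ a) :
    ∃ K : Subalgebra E (Matrix (Fin 9) (Fin 9) E), IsFieldSubalgebra 3 K ∧ H ≤ subalgebraNormalizer K := by
  refine max93_of' hres hp hf hE hr hH hx ho ?_ ?_
  · rintro rfl
    rw [pow_zero] at hbig
    omega
  · rintro rfl rfl
    norm_num at hbig

end Cfsg.Agent.H951.Rg
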