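import Cfsg.Agent.H83.Rg.KOdd
import Cfsg.Agent.H951.Rg.Max93

/-!
# `kext_nine` with the weakest hypothesis on `r ^ a` (S3691, P1 of helper383, helper951)

A copy of helper83's `unit_main` and `kext_nine_of` (H83/Rg/KOdd.lean) where `37 < r ^ a` is replaced by `a ≠ 0` and
`r = 19 → a ≠ 1`.
-/

set_option autoImplicit false
set_option linter.unusedSectionVars false

namespace Cfsg.Agent.H951.Rg

open Module Cfsg Cfsg.Geo Cfsg.Agent.LieClassical.OrthCore Cfsg.Agent.LieClassical.OrthTrans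
  Cfsg.Agent.H955 Cfsg.Agent.H954.TSing Cfsg.Agent.H884.El Cfsg.Agent.H278.Cov Cfsg.Agent.H449.Reg Cfsg.Agent.H655.Rg
  Cfsg.Agent.H83.Rg
open Cfsg.Agent.H951 (fx cm Inv)
open scoped MatrixGroups Matrix

universe u v

section Main

variable {F : Type} [Field F] [Fintype F] {V : Type v} [AddCommGroup V] [Module F V] [FiniteDimensional F V]
  {Q : QuadraticForm F V} {A : Subgroup (V ≃ₗ[F] V)}

omit [FiniteDimensional F V] in
theorem unit_main' {m s : ℕ} (hm : Odd m) (hm5 : 3 ≤ m) {p f r a : ℕ}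
    (M : ∀ {E : Type} [Field E] [Fintype E], Fintype.card E = (p ^ f) ^ 2 → ∀ {H : Subgroup (GL (Fin m) E)},
      Cfsg.Geo.IsMaximalIn (Cfsg.GU m E (p ^ f) ⊓ Cfsg.Geo.specialLinear (Fin m) E) H → ∀ {x : GL (Fin m) E}, x ∈ H →
      orderOf x = r ^ a → ∃ K : Subalgebra E (Matrix (Fin m) (Fin m) E),
        Cfsg.Geo.IsFieldSubalgebra s K ∧ H ≤ Cfsg.Geo.subalgebraNormalizer K)
    (hn : finrank F V = 2 * m)
    (hQ : Nondeg Q) (hA : A ≤ O Q) (hK : AExt 2 A) (hp : p.Prime) (hF : Fintype.card F = p ^ f)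
    (hr : PP p (f * (2 * m)) r) {g : V ≃ₗ[F] V} (hg : g ∈ A) (ho : orderOf g = r ^ a) (hbig : 1 < r ^ a) :
    (∀ t j, PP (p ^ f) (2 * j) t → Odd j → 3 ≤ j → j ≤ m → t ∣ Nat.card A) ∨
    ∃ (E : Type) (_ : Field E) (_ : Fintype E) (K : Subalgebra E (Matrix (Fin m) (Fin m) E)) (L : Subgroup (GL (Fin m) E)),
      Fintype.card E = (p ^ f) ^ 2 ∧ IsFieldSubalgebra s K ∧ L ≤ subalgebraNormalizer K ∧
      Nat.card A ∣ 2 * (Nat.card L * ((p ^ f) ^ 2 - 1)) := by
  classical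
  obtain ⟨n, φ₀, K, -, hKf, hle⟩ := hK
  have hn' := finrank_of_equiv φ₀
  have hn2 : n = 2 * m := by omega
  have hf : 1 ≤ f := by
    rcases Nat.eq_zero_or_pos f with h | h
    · exfalso
      rw [h, pow_zero] at hF
      have := Fintype.one_lt_card (α := F)
      omega
    · exact h
  set B := A.map (cj φ₀).toMonoidHom with hB
  have hcard : Nat.card B = Nat.card A := Subgroup.card_map_of_injective (cj φ₀).injective
  have hgB : cj φ₀ g ∈ B := ⟨g, hg, rfl⟩
  have hgo : orderOf (cj φ₀ g) = r ^ a := by rw [MulEquiv.orderOf_eq, ho]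
  have hne : Nonempty (Fin n) := ⟨⟨0, by omega⟩⟩
  have hrF : PP (Nat.card F) n r := by
    rw [Nat.card_eq_fintype_card, hF, hn2]
    exact PP.of_pow hr hf
  have hr2 : r ≠ 2 := by
    have := hrF.lt (by omega)
    omega
  obtain ⟨x, hxB, hxr, hx1, k, hk⟩ := exists_prime_pow hgB hr.prime hgo (by omega)
  have hcop : ∀ {y : GL (Fin n) F}, (∃ i, orderOf y ∣ r ^ i) → Nat.Coprime (orderOf y) 2 := by
    rintro y ⟨i, hi⟩
    exact Nat.Coprime.coprime_dvd_left hi (Nat.Coprime.pow_left i ((Nat.coprime_primes hr.prime Nat.prime_two).2 hr2))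
  have hxz : x ∈ cz K := mem_cz hKf hle hxB (hcop ⟨1, by rw [pow_one]; exact orderOf_dvd_of_pow_eq_one hxr⟩)
  have hgz : cj φ₀ g ∈ cz K := mem_cz hKf hle hgB (hcop ⟨a, by rw [hgo]⟩)
  -- the form
  let Bf : LinearMap.BilinForm F (Fin n → F) := QuadraticMap.polarBilin (tq Q φ₀)
  have hBf : ∀ u v, Bf u v = QuadraticMap.polar (tq Q φ₀) u v := fun u v => rfl
  have hiso : ∀ b ∈ B, ∀ u v, Bf ((b : Matrix (Fin n) (Fin n) F) *ᵥ u) ((b : Matrix (Fin n) (Fin n) F) *ᵥ v) = Bf u v := by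
    rintro _ ⟨c, hc, rfl⟩ u v
    have h1 := LieClassical.OrthFinite.mem_isometryGroup_iff.1 (cj_iso φ₀ (hA hc))
    rw [hBf, hBf]
    unfold QuadraticMap.polar
    rw [← Matrix.mulVec_add]
    rw [show tq Q φ₀ ((((cj φ₀).toMonoidHom c : GL (Fin n) F) : Matrix (Fin n) (Fin n) F) *ᵥ (u + v)) = tq Q φ₀ (u + v) from h1 _,
      show tq Q φ₀ ((((cj φ₀).toMonoidHom c : GL (Fin n) F) : Matrix (Fin n) (Fin n) F) *ᵥ u) = tq Q φ₀ u from h1 _,
      show tq Q φ₀ ((((cj φ₀).toMonoidHom c : GL (Fin n) F) : Matrix (Fin n) (Fin n) F) *ᵥ v) = tq Q φ₀ v from h1 _]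
  obtain ⟨E, iE, iFE, hE, φ, hφ⟩ := exists_her hKf hn2 hm Bf (fun u v => QuadraticMap.polar_comm _ _ _)
    (fun u hu => nondeg_tq hQ φ₀ u hu) hxz (hiso x hxB) hrF hxr hx1
  rw [hF] at hE hφ
  set L := low φ B with hL
  have hLGU : L ≤ Cfsg.GU m E (p ^ f) := by
    rintro _ ⟨y, hy, rfl⟩
    exact hφ y (hiso _ hy)
  have hcL : Nat.card L = Nat.card (B.subgroupOf (cz K)) := Subgroup.card_map_of_injective (lift_injective φ)
  have hAL : Nat.card A ∣ 2 * Nat.card L := by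
    rw [← hcard, hcL]
    exact card_dvd_cz hKf hle
  have hLA : Nat.card L ∣ Nat.card A := by
    rw [← hcard]
    exact card_low_dvd φ B
  set y := liftHom φ ⟨cj φ₀ g, hgz⟩ with hy
  have hyL : y ∈ L := mem_low φ hgz hgB
  have hyo : orderOf y = r ^ a := by rw [hy, order_lift, hgo]
  -- the determinant of `y`
  have hyS : y ∈ specialLinear (Fin m) E := by
    change Matrix.GeneralLinearGroup.det y = 1
    have h1 : (Matrix.GeneralLinearGroup.det y) ^ (r ^ a) = 1 := by rw [← map_pow, ← hyo, pow_orderOf_eq_one, map_one]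
    have h2 : (Matrix.GeneralLinearGroup.det y) ^ (Fintype.card E - 1) = 1 := by
      rw [← Fintype.card_units]; exact pow_card_eq_one
    have h3 : Nat.Coprime (r ^ a) (Fintype.card E - 1) := by
      apply Nat.Coprime.pow_left
      rw [hr.prime.coprime_iff_not_dvd, hE, ← hF, ← Nat.card_eq_fintype_card]
      intro h4
      have h5 := (hrF.dvd_iff (by rw [Nat.card_eq_fintype_card]; exact Fintype.card_pos) 2).1 h4
      have := Nat.le_of_dvd (by norm_num) h5
      omega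
    have h4 := pow_gcd_eq_one.2 ⟨h1, h2⟩
    rw [Nat.coprime_iff_gcd_eq_one.1 h3, pow_one] at h4
    exact h4
  have hLS : L ⊓ specialLinear (Fin m) E ≤ Cfsg.GU m E (p ^ f) ⊓ specialLinear (Fin m) E := inf_le_inf_right _ hLGU
  have hfG : Finite (GL (Fin m) E) := inferInstance
  rcases eq_or_lt_of_le hLS with heq | hlt
  · left
    intro t j ht hj hj3 hjm
    refine (su_dvd (H := L) (q := p ^ f) (j := j) hE (H981.Cov.isUnitaryForm_herm hE) ht hj hj3 hjm ?_).trans hLA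
    intro z hz hd
    have h1 : z ∈ Cfsg.GU m E (p ^ f) ⊓ specialLinear (Fin m) E := by
      refine ⟨fun u v => ?_, hd⟩
      exact hz _ rfl u v
    rw [← heq] at h1
    exact h1.1
  · right
    obtain ⟨H, hH, hLH⟩ := H905.exists_isMaximalIn_of_lt hlt
    obtain ⟨K', hK', hHK⟩ := M hE hH (hLH ⟨hyL, hyS⟩) hyo
    refine ⟨E, iE, iFE, K', L ⊓ specialLinear (Fin m) E, hE, hK', hLH.trans hHK, ?_⟩
    refine hAL.trans (Nat.mul_dvd_mul_left 2 ?_)
    have := card_dvd_sl L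
    rwa [hE] at this

/-- (T12) `m = 9` -/
theorem kext_nine_of' (hres : ∀ (F : Type) [Field F] [Fintype F] (q : ℕ), Fintype.card F = q ^ 2 → H729.CovSU9.Res9 F q)
    {p f r a : ℕ} (hn : finrank F V = 18) (hQ : Nondeg Q) (hA : A ≤ O Q)
    (hK : AExt 2 A) (hp : p.Prime) (hF : Fintype.card F = p ^ f) (hr : PP p (f * 18) r)
    {g : V ≃ₗ[F] V} (hg : g ∈ A) (ho : orderOf g = r ^ a) (ha : a ≠ 0) (h19 : r = 19 → a ≠ 1)
    {t : ℕ} (ht : PP (p ^ f) 8 t) (htA : t ∣ Nat.card A) :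
    (∀ t, PP (p ^ f) 14 t → t ∣ Nat.card A) ∨ (∀ t, PP (p ^ f) 16 t → t ∣ Nat.card A) := by
  have hf : 1 ≤ f := by
    rcases Nat.eq_zero_or_pos f with h | h
    · exfalso
      rw [h, pow_zero] at hF
      have := Fintype.one_lt_card (α := F)
      omega
    · exact h
  have hbig : 1 < r ^ a := Nat.one_lt_pow ha hr.prime.one_lt
  rcases unit_main' (m := 9) (s := 3) (by decide) (by norm_num)
    (fun hE _ hH _ hx ho => max93_of' hres hp hf hE hr hH hx ho ha h19) (by rw [hn]) hQ hA hK hp hF hr hg ho hbig with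
    h | ⟨E, i1, i2, K, L, hE, hK', hL, hc⟩
  · exact Or.inl fun t ht => h t 7 ht (by decide) (by norm_num) (by norm_num)
  · exfalso
    have hfG : Finite (GL (Fin 9) E) := inferInstance
    have hq1 : 1 ≤ p ^ f := Nat.one_le_pow _ _ hp.pos
    have ht8 := ht.lt (by norm_num)
    have h1 := htA.trans hc
    have h2 : ¬ t ∣ (p ^ f) ^ 2 - 1 := by
      rw [ht.dvd_iff hq1]; decide
    have h3 : t ∣ Nat.card L := by
      rcases ht.prime.dvd_mul.1 h1 with h4 | h4
      · have := Nat.le_of_dvd (by norm_num) h4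
        omega
      · exact (ht.prime.dvd_mul.1 h4).resolve_right h2
    have htE : ¬ t ∣ Nat.card E := by
      rw [Nat.card_eq_fintype_card, hE]
      intro h4
      exact ht.not_dvd (by norm_num) (ht.prime.dvd_of_dvd_pow h4)
    rcases H251.GeoCard.extension (by norm_num) hK' ht.prime htE (h3.trans (Subgroup.card_dvd_of_le hL)) with
      h4 | ⟨i, hi1, hi2, hi3⟩
    · omega
    · rw [Fintype.card_fin] at hi2
      rw [Nat.card_eq_fintype_card, hE, ← pow_mul, ← pow_mul, ht.dvd_iff hq1] at hi3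
      have hi4 : i ≤ 3 := hi2
      interval_cases i
      · revert hi3; decide
      · revert hi3; decide
      · revert hi3; decide

end Main

end Cfsg.Agent.H951.Rg
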