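import Cfsg.Agent.H729.CovU
import Cfsg.Agent.H884.ElNum
import Cfsg.Agent.H900.SU4.Base
import Cfsg.Agent.H921.UnitMain

/-!
# Overgroups in `SU_m(q)`, `m` odd, of an element of order `r ^ a`, `r` primitive for `q ^ (2m) - 1` (S3691, helper951)

* `ord_neg_of_pp` : `-q` has order `m` modulo `r`
* `ovr` : a subgroup of `GU_m(q)` containing `x` normalises a field of odd prime degree `s ∣ m`, or is in the residual class
* `core_dvd_pow` : in the residual class `r ^ a` divides the order of the automorphism group of the socle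
-/

set_option autoImplicit false
set_option linter.unusedSectionVars false

namespace Cfsg.Agent.H951.Rg

open Cfsg Cfsg.Geo Module Cfsg.Agent.H251.GeoCard Cfsg.Agent.H251.GeoU Cfsg.Agent.H884.El
open scoped Matrix MatrixGroups

/-- `-q` has order `m` -/
theorem ord_neg_of_pp {p f m r : ℕ} (hp : p.Prime) (hf : 1 ≤ f) (hm : 1 ≤ m) (hodd : Odd m)
    (hr : PP p (f * (2 * m)) r) :
    (∀ k, r ∣ p ^ k - 1 ↔ 2 * m * f ∣ k) ∧ 2 * m * f ∣ r - 1 ∧ orderOf (-((p ^ f : ℕ) : ZMod r)) = m := by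
  have e0 : f * (2 * m) = 2 * m * f := by ring
  have hmf : 1 ≤ m * f := Nat.mul_pos hm hf
  have h6 : 1 ≤ 2 * m * f := by rw [mul_assoc]; omega
  rw [e0] at hr
  have hiff : ∀ k, r ∣ p ^ k - 1 ↔ 2 * m * f ∣ k := fun k => hr.dvd_iff hp.one_lt.le k
  refine ⟨hiff, hr.dvd_sub_one h6, ?_⟩
  have := Fact.mk hr.prime
  have hpord : ∀ k, (p : ZMod r) ^ k = 1 ↔ 2 * m * f ∣ k := by
    intro k
    rw [← orderOf_dvd_iff_pow_eq_one, hr.ord]
  have h1 : ((p ^ f : ℕ) : ZMod r) ^ m = -1 := by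
    have h2 : ((p ^ f : ℕ) : ZMod r) ^ m * ((p ^ f : ℕ) : ZMod r) ^ m = 1 := by
      push_cast
      rw [← pow_add, ← pow_mul, hpord]
      exact ⟨1, by ring⟩
    have h3 : ((p ^ f : ℕ) : ZMod r) ^ m ≠ 1 := by
      push_cast
      rw [← pow_mul, Ne, hpord]
      intro h4
      have h5 := Nat.le_of_dvd (by rw [mul_comm]; exact hmf) h4
      rw [mul_assoc, mul_comm f m] at h5
      omega
    rcases mul_self_eq_one_iff.1 h2 with h4 | h4
    · exact absurd h4 h3
    · exact h4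
  apply Nat.dvd_antisymm
  · rw [orderOf_dvd_iff_pow_eq_one, hodd.neg_pow, h1, neg_neg]
  · have h2 : (-((p ^ f : ℕ) : ZMod r)) ^ orderOf (-((p ^ f : ℕ) : ZMod r)) = 1 := pow_orderOf_eq_one _
    set o := orderOf (-((p ^ f : ℕ) : ZMod r)) with ho
    have h3 : (p : ZMod r) ^ (2 * f * o) = 1 := by
      have h4 : ((-((p ^ f : ℕ) : ZMod r)) ^ o) ^ 2 = 1 := by rw [h2, one_pow]
      rw [← pow_mul, mul_comm o 2, pow_mul, neg_sq] at h4
      push_cast at h4
      rw [← h4, ← pow_mul, ← pow_mul]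
      congr 1
      ring
    rw [hpord] at h3
    have h4 : 2 * f * m ∣ 2 * f * o := by
      rwa [show 2 * m * f = 2 * f * m by ring] at h3
    exact Nat.dvd_of_mul_dvd_mul_left (by omega) h4

section Ovr

variable {E : Type*} [Field E] [Fintype E] {m : ℕ}

theorem dvd_of_mem {H : Subgroup (GL (Fin m) E)} {x : GL (Fin m) E} (hx : x ∈ H) {N : ℕ} (ho : orderOf x = N) :
    N ∣ Nat.card H := by
  rw [← ho, ← Subgroup.orderOf_mk x hx]
  exact orderOf_dvd_natCard _

/-- **subgroups of `GU_m(q)` containing an element of order `r ^ a`** -/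
theorem ovr {p f r a : ℕ} (hp : p.Prime) (hf : 1 ≤ f) (hE : Fintype.card E = (p ^ f) ^ 2) (hm : Odd m) (hm5 : 5 ≤ m)
    (hr : PP p (f * (2 * m)) r) {H : Subgroup (GL (Fin m) E)} (hH : H ≤ Cfsg.GU m E (p ^ f)) {x : GL (Fin m) E}
    (hx : x ∈ H) (ho : orderOf x = r ^ a) (ha : a ≠ 0) :
    (∃ (s : ℕ) (K : Subalgebra E (Matrix (Fin m) (Fin m) E)), s.Prime ∧ Odd s ∧ s ∣ m ∧ IsFieldSubalgebra s K ∧
      H ≤ subalgebraNormalizer K) ∨ InUnitaryResidualClass H := by
  obtain ⟨hiff, hd, hord⟩ := ord_neg_of_pp hp hf (by omega) hm hr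
  have hrH : r ∣ Nat.card H := (dvd_pow_self r ha).trans (dvd_of_mem hx ho)
  have hlt : m + 1 < r := by
    have h1 := Nat.le_of_dvd (by have := hr.prime.two_le; omega) hd
    have h2 : 2 * m * 1 ≤ 2 * m * f := Nat.mul_le_mul_left _ hf
    omega
  rcases H921.unitary_structure (n := m) hE (by omega) hH with ⟨X, hX, hle⟩ | hres
  · left
    rcases H729.CovU.geo_over hE hp rfl hf hr.prime hiff hord hm (by omega) (by omega) hlt hX
      (hrH.trans (Subgroup.card_dvd_of_le hle)) with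
      ⟨W, hW0, -, hW, -⟩ | ⟨W, hW0, -, -, hW, -⟩ | ⟨s, K, hs, hso, hsm, -, hK, rfl⟩
    · exact absurd (Submodule.finrank_eq_zero.1 (by omega)) hW0
    · exact absurd (Submodule.finrank_eq_zero.1 (by omega)) hW0
    · exact ⟨s, K, hs, hso, hsm, hK, hle.trans inf_le_left⟩
  · exact Or.inr hres

/-- in the residual class -/
theorem core_dvd_pow {r a : ℕ} (hm : 0 < m) {H P : Subgroup (GL (Fin m) E)} (hP : IsResidualCore H P) (hr : r.Prime)
    (hr1 : ¬ r ∣ Nat.card E - 1) {x : GL (Fin m) E} (hx : x ∈ H) (ho : orderOf x = r ^ a) :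
    r ^ a ∣ Nat.card (MulAut (P ⧸ (scalars (Fin m) E).subgroupOf P)) := by
  classical
  have hfr : Fact r.Prime := ⟨hr⟩
  rcases Nat.eq_zero_or_pos a with rfl | ha
  · rw [pow_zero]
    exact one_dvd _
  obtain ⟨b, rfl⟩ : ∃ b, a = b + 1 := ⟨a - 1, by omega⟩
  obtain ⟨φ, hφ⟩ := H900.SU4.exists_core_inj hP
  set x' : H := ⟨x, hx⟩ with hx'
  have ho' : orderOf x' = r ^ (b + 1) := by rw [← ho, hx', Subgroup.orderOf_mk]
  set y := φ (QuotientGroup.mk' ((scalars (Fin m) E).subgroupOf H) x') with hy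
  have h1 : y ^ r ^ (b + 1) = 1 := by
    rw [hy, ← map_pow, ← map_pow, ← ho', pow_orderOf_eq_one, map_one, map_one]
  have h2 : ¬ y ^ r ^ b = 1 := by
    intro h
    rw [hy, ← map_pow, ← map_pow] at h
    have h3 : QuotientGroup.mk' ((scalars (Fin m) E).subgroupOf H) (x' ^ r ^ b) = 1 := by
      apply hφ
      rw [h, map_one]
    have h4 : x' ^ r ^ b ∈ (scalars (Fin m) E).subgroupOf H := (QuotientGroup.eq_one_iff _).1 h3
    have h5 : x ^ r ^ b ∈ scalars (Fin m) E := Subgroup.mem_subgroupOf.1 h4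
    obtain ⟨c, hc⟩ := (mem_scalars_iff _).1 h5
    have hxs : (x ^ r ^ b) ^ r = 1 := by
      rw [← pow_mul, ← pow_succ, ← ho]
      exact pow_orderOf_eq_one x
    have hcs : c ^ r = 1 := by
      have h5 := congrArg (fun g : GL (Fin m) E => (g : Matrix (Fin m) (Fin m) E) ⟨0, hm⟩ ⟨0, hm⟩) hxs
      simp only [Units.val_pow_eq_pow_val] at h5 hc
      rw [hc] at h5
      simp only [_root_.smul_pow, one_pow, Units.val_one, Matrix.smul_apply, Matrix.one_apply_eq, smul_eq_mul,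
        mul_one] at h5
      exact Units.ext (by rw [Units.val_pow_eq_pow_val, h5, Units.val_one])
    have hc1 : c ≠ 1 := by
      rintro rfl
      have h6 : x ^ r ^ b = 1 := Units.ext (by rw [hc]; simp)
      have h7 := orderOf_dvd_of_pow_eq_one h6
      rw [ho] at h7
      have h8 := Nat.le_of_dvd (pow_pos hr.pos _) h7
      have h9 : r ^ b < r ^ (b + 1) := Nat.pow_lt_pow_right hr.one_lt (by omega)
      omega
    apply hr1
    have h6 : orderOf c = r := orderOf_eq_prime hcs hc1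
    rw [Nat.card_eq_fintype_card, ← Fintype.card_units, ← h6]
    exact orderOf_dvd_card
  have h3 := orderOf_eq_prime_pow h2 h1
  rw [← h3, ← Nat.card_zpowers]
  exact Subgroup.card_subgroup_dvd_card _

/-- `r` does not divide `|E| - 1` -/
theorem not_dvd_pred {p f r : ℕ} (hp : p.Prime) (hf : 1 ≤ f) (hE : Fintype.card E = (p ^ f) ^ 2) (hm2 : 2 ≤ m)
    (hr : PP p (f * (2 * m)) r) : ¬ r ∣ Nat.card E - 1 := by
  rw [Nat.card_eq_fintype_card, hE, ← pow_mul, hr.dvd_iff hp.one_lt.le]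
  intro h
  have h1 := Nat.le_of_dvd (by omega) h
  have h2 : f * (2 * m) ≤ f * 2 := h1
  have h3 := Nat.le_of_mul_le_mul_left h2 (by omega)
  omega

end Ovr

end Cfsg.Agent.H951.Rg
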