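import Cfsg.Agent.H951.Rg.Nine
import Cfsg.Agent.S5833

/-!
# `kext_nine'` (S3691, P1 of helper383, helper951)
-/

set_option autoImplicit false
set_option linter.unusedSectionVars false

namespace Cfsg.Agent.H951.Rg

open Module Cfsg Cfsg.Geo Cfsg.Agent.LieClassical.OrthCore Cfsg.Agent.H955 Cfsg.Agent.H884.El Cfsg.Agent.H278.Cov
  Cfsg.Agent.H449.Reg

universe v

variable {F : Type} [Field F] [Fintype F] {V : Type v} [AddCommGroup V] [Module F V] [FiniteDimensional F V]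
  {Q : QuadraticForm F V} {A : Subgroup (V ≃ₗ[F] V)}

/-- `kext_nine` with `a ≠ 0`, `r = 19 → a ≠ 1` in place of `37 < r ^ a` -/
theorem kext_nine' {p f r a : ℕ} (hn : finrank F V = 18) (hQ : Nondeg Q) (hA : A ≤ O Q) (hK : AExt 2 A)
    (hp : p.Prime) (hF : Fintype.card F = p ^ f) (hr : PP p (f * 18) r)
    {g : V ≃ₗ[F] V} (hg : g ∈ A) (ho : orderOf g = r ^ a) (ha : a ≠ 0) (h19 : r = 19 → a ≠ 1)
    {t : ℕ} (ht : PP (p ^ f) 8 t) (htA : t ∣ Nat.card A) :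
    (∀ t, PP (p ^ f) 14 t → t ∣ Nat.card A) ∨ (∀ t, PP (p ^ f) 16 t → t ∣ Nat.card A) :=
  kext_nine_of' (fun F _ _ q hF H hH hS => Cfsg.Agent.S5833.result q hF H hH hS) hn hQ hA hK hp hF hr hg ho ha h19 ht htA

end Cfsg.Agent.H951.Rg
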